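import Cfsg.Agent.H509.QS.Dbl
import Cfsg.Agent.H64.CoverG24
import Cfsg.Agent.H83.FoldRel
import Cfsg.Agent.S2177
import Cfsg.Agent.S1032
import Cfsg.Agent.S2102

/-!
# The double cover of `G₂(4)` (S2491/S2492, D6; helper509)

* long root involutions lift to involutions, short root involutions to elements of order four;
* `x_7(1)` and `x_7(t)` (short roots) lift to anticommuting elements.
-/

set_option autoImplicit false
set_option linter.unusedSectionVars false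

namespace Cfsg.Agent.H509.QS.GTwo

open Subgroup Cfsg Cfsg.Lie Cfsg.Agent.ChevalleyStructure Cfsg.Agent.ChevalleyStructure.Elts
open Cfsg.Agent.H83.ChevInv Cfsg.Agent.H83.OrthRed Cfsg.Agent.H83.FoldRel Cfsg.Agent.H70.G2Even
open Cfsg.Agent.H51.Mult Cfsg.Agent.H777.Ore Cfsg.Agent.H509.QS

universe u v

section

variable {F : Type v} [Field F]

/-- root elements -/
def X (r : ℕ) (t : F) : ↥(chevG2.group F) := ⟨xG inG2 r t, xG_mem_group inG2 r t⟩

theorem X_mul (r : ℕ) (t u : F) : X r t * X r u = X r (t + u) := Subtype.ext (xG_add inG2 r t u)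

/-- the torus -/
theorem X_torus {i s : ℕ} (hi : i < chevG2.rank) (hs : s < chevG2.nroots) {c : F} (hc : c ≠ 0) (t : F) :
    ∃ h : ↥(chevG2.group F), h * X s t * h⁻¹ = X s (c ^ (chevG2.cartan i s) * t) := by
  refine ⟨⟨hG inG2 (chevG2.simple i) c, hG_mem_group inG2 _ _⟩, ?_⟩
  rw [mul_inv_eq_iff_eq_mul]
  apply Subtype.ext
  apply Units.ext
  have h := Cfsg.Agent.S1032.result (F := F) chevG2 inG2 i s hi hs c hc t
  show ((hG inG2 (chevG2.simple i) c * xG inG2 s t : GL chevG2.Idx F) : Matrix chevG2.Idx chevG2.Idx F) =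
    ((xG inG2 s (c ^ (chevG2.cartan i s) * t) * hG inG2 (chevG2.simple i) c : GL chevG2.Idx F) :
      Matrix chevG2.Idx chevG2.Idx F)
  rw [Units.val_mul, Units.val_mul, coe_hG, coe_xG, coe_xG]
  exact h

variable [CharP F 2]

theorem X_sq (r : ℕ) (t : F) : X r t * X r t = 1 := Subtype.ext (xG_sq inG2 r t)

theorem X_refl {i s : ℕ} (hi : i < chevG2.rank) (hs : s < chevG2.nroots) (t : F) :
    ∃ h : ↥(chevG2.group F), h * X s t * h⁻¹ = X (chevG2.reflectRoot i s) t :=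
  ⟨⟨nG inG2 (chevG2.simple i) 1, nG_mem_group inG2 _ _⟩, Subtype.ext (n_conj inG2 hi hs t)⟩

theorem conj_10_11 (t : F) : ∃ h : ↥(chevG2.group F), h * X 10 t * h⁻¹ = X 11 t := by
  have h := X_refl (F := F) (i := 1) (s := 10) (by decide) (by decide) t
  have e : chevG2.reflectRoot 1 10 = 11 := by decide +kernel
  rwa [e] at h

theorem conj_7_8 (t : F) : ∃ h : ↥(chevG2.group F), h * X 7 t * h⁻¹ = X 8 t := by
  have h := X_refl (F := F) (i := 1) (s := 7) (by decide) (by decide) t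
  have e : chevG2.reflectRoot 1 7 = 8 := by decide +kernel
  rwa [e] at h

theorem conj_8_9 (t : F) : ∃ h : ↥(chevG2.group F), h * X 8 t * h⁻¹ = X 9 t := by
  have h := X_refl (F := F) (i := 0) (s := 8) (by decide) (by decide) t
  have e : chevG2.reflectRoot 0 8 = 9 := by decide +kernel
  rwa [e] at h

theorem conj_11 {t : F} (ht : t ≠ 0) : ∃ h : ↥(chevG2.group F), h * X 11 1 * h⁻¹ = X 11 t := by
  have h := X_torus (F := F) (i := 1) (s := 11) (by decide) (by decide) ht 1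
  have e : chevG2.cartan 1 11 = 1 := by decide +kernel
  rwa [e, zpow_one, mul_one] at h

theorem conj_7 {t : F} (ht : t ≠ 0) : ∃ h : ↥(chevG2.group F), h * X 7 1 * h⁻¹ = X 7 t := by
  have h := X_torus (F := F) (i := 1) (s := 7) (by decide) (by decide) (inv_ne_zero ht) 1
  have e : chevG2.cartan 1 7 = -1 := by decide +kernel
  rwa [e, zpow_neg, zpow_one, inv_inv, mul_one] at h

theorem com_10_11 (t u : F) : X 10 t * X 11 u = X 11 u * X 10 t :=
  Subtype.ext (of_com' inG2 (by decide +kernel) t u)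

theorem conj_sum (u : F) : ∃ h : ↥(chevG2.group F), h * X 10 1 * h⁻¹ = X 10 1 * X 11 u := by
  refine ⟨X 6 u, ?_⟩
  have h1 : (X 6 u : ↥(chevG2.group F))⁻¹ = X 6 u := inv_eq_of_mul_eq_one_left (X_sq 6 u)
  rw [h1]
  have h := of_add1 inG2 (K := F) (r := 6) (s := 10) (k := 11) (by decide +kernel) u 1
  rw [mul_one] at h
  exact Subtype.ext h

variable {Γ : Type u} [Group Γ] {σ : Γ →* ↥(chevG2.group F)} {z : Γ}

theorem exists_t (h4 : 3 ≤ Nat.card F) : ∃ t : F, t ≠ 0 ∧ t ≠ 1 := by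
  classical
  by_contra h
  push Not at h
  have h1 : (Set.univ : Set F) ⊆ {0, 1} := by
    intro x _
    by_cases hx : x = 0
    · exact .inl hx
    · exact .inr (h x hx)
  have h2 := Set.ncard_le_ncard h1 (Set.toFinite _)
  rw [Set.ncard_univ] at h2
  have h3 := Set.ncard_insert_le (0 : F) {1}
  rw [Set.ncard_singleton] at h3
  omega

/-- long root involutions -/
theorem sq_long (D : Dbl σ z) (h4 : 3 ≤ Nat.card F) : Sq σ 1 (X 11 (1 : F)) := by
  refine (sq_or D (X_sq 11 1)).resolve_right fun h11 => ?_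
  obtain ⟨t, ht0, ht1⟩ := exists_t h4
  have h11' : ∀ u : F, u ≠ 0 → Sq σ z (X 11 u) := fun u hu => h11.conj' D D.hz (conj_11 hu)
  have h10 : Sq σ z (X 10 (1 : F)) := by
    obtain ⟨h, e⟩ := conj_10_11 (1 : F)
    exact h11.conj' D D.hz ⟨h⁻¹, by rw [← e]; group⟩
  have hs : ∀ u : F, Sq σ z (X 10 1 * X 11 u) := fun u => h10.conj' D D.hz (conj_sum u)
  have h1t : 1 + t ≠ 0 := by
    intro h
    apply ht1
    have := CharTwo.add_self_eq_zero (1 : F)
    linear_combination h - this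
  refine no_three D (a := X 11 1) (b := X 10 1) (c := X 11 t) h11 h10 (h11' t ht0) ?_ ?_ (hs t) ?_
  · rw [← com_10_11]
    exact hs 1
  · rw [X_mul]
    exact h11' _ h1t
  · have e : X 11 1 * (X 10 1 * X 11 t) = X 10 1 * X 11 (1 + t) := by
      rw [← mul_assoc, ← com_10_11, mul_assoc, X_mul]
    rw [e]
    exact hs _

/-- short root involutions -/
theorem sq_short [Fintype F] (D : Dbl σ z) (h4 : 4 ≤ Fintype.card F) {k : Γ} (hk : σ (k * k) = 1) (hk1 : k * k ≠ 1)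
    {t : F} (ht : t ≠ 0) : Sq σ z (X 7 t) := by
  have h4' : 3 ≤ Nat.card F := by rw [Nat.card_eq_fintype_card]; omega
  have hkz := D.ne hk1 hk
  have hlong := sq_long D h4'
  have hne : σ k ≠ 1 := by
    intro h
    rcases D.mem k h with rfl | rfl
    · exact hk1 (mul_one 1)
    · exact hk1 D.zz
  have ho : orderOf ((σ k : ↥(chevG2.group F)) : GL chevG2.Idx F) = 2 := by
    rw [Subgroup.orderOf_coe]
    refine orderOf_eq_prime ?_ hne
    rw [pow_two, ← map_mul, hk]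
  obtain ⟨y, hy, hy2, h, hh, e⟩ := (Cfsg.Agent.S2177.result h4).2.1 _ (σ k).2 ho
  have h9 : Sq σ z (X 9 (1 : F)) := by
    have hsq := sq_of_lift D hkz
    rcases Cfsg.Agent.S2177.cases' hy2 with rfl | rfl
    · exfalso
      have h1 : Sq σ z (X 11 (1 : F)) := hsq.conj' D D.hz ⟨⟨h, hh⟩, Subtype.ext e⟩
      obtain ⟨x, hx⟩ := D.surj (X 11 (1 : F))
      exact D.z1 ((h1 x hx).symm.trans (hlong x hx))
    · exact hsq.conj' D D.hz ⟨⟨h, hh⟩, Subtype.ext e⟩
  have h7 : Sq σ z (X 7 (1 : F)) := by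
    obtain ⟨a, ea⟩ := conj_7_8 (1 : F)
    obtain ⟨b, eb⟩ := conj_8_9 (1 : F)
    refine h9.conj' D D.hz ⟨(b * a)⁻¹, ?_⟩
    rw [← eb, ← ea]
    group
  exact h7.conj' D D.hz (conj_7 ht)

/-- **The row, from the pairs in `G₂(4)`.** -/
theorem allC_of [Fintype F] (D : Dbl σ z) (h4 : 4 ≤ Fintype.card F) {k : Γ} (hk : σ (k * k) = 1) (hk1 : k * k ≠ 1)
    (hp : ∃ w : ↥(chevG2.group F), w ^ 3 = 1 ∧ (∀ u : F, w * X 7 u = X 7 u * w) ∧
      ∀ g : ↥(chevG2.group F), g ≠ 1 → ∃ a b : ↥(chevG2.group F),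
        g = a * (w * X 7 1) * a⁻¹ * (b * (w * X 7 1)⁻¹ * b⁻¹)) : AllC Γ := by
  obtain ⟨w, h3, hc, hcov⟩ := hp
  obtain ⟨t, ht0, ht1⟩ := exists_t (F := F) (by rw [Nat.card_eq_fintype_card]; omega)
  have h1t : 1 + t ≠ 0 := by
    intro h
    apply ht1
    have := CharTwo.add_self_eq_zero (1 : F)
    linear_combination h - this
  refine Dbl.allC D (w := w) (t := X 7 1) (t' := X 7 t) h3 (hc 1) (hc t) (sq_short D h4 hk hk1 one_ne_zero)
    (sq_short D h4 hk hk1 ht0) ?_ hcov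
  rw [X_mul]
  exact sq_short D h4 hk hk1 h1t

end

/-! ### The cover -/

section cover

open Cfsg.Agent.SporadicA Cfsg.Agent.SporadicStructure.Co0Matrix Cfsg.Agent.CoOneType.CoEval
  Cfsg.Agent.CoOneType Cfsg.Agent.SporadicStructure
open Cfsg.Agent.KFacts.Co1D4
open Cfsg.Agent.H64.CoverG24

/-- a double cover with a lift of an involution whose square is not one -/
theorem exists_dbl_L : ∃ (Γ : Type) (_ : Group Γ) (_ : Finite Γ) (σ : Γ →* KFacts.Co1D4.GTwo.L) (z k : Γ),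
    PCE σ ∧ Dbl σ z ∧ σ (k * k) = 1 ∧ k * k ≠ 1 := by
  have hfin : Finite Co0 := CoOneType.FrameFix.finite_co0
  have hs : Function.Surjective (QuotientGroup.mk' (Subgroup.center Co0)) := QuotientGroup.mk'_surjective _
  have hmem : QuotientGroup.mk' (Subgroup.center Co0) (Letters.e 3) ∈ KFacts.Co1D4.GTwo.L :=
    Subgroup.subset_closure ⟨3, rfl⟩
  obtain ⟨y, hy, k, hk, e⟩ := split hs KFacts.Co1D4.GTwo.perf_L hmem
  have hyy : y * y = 1 := sq_center (ker_pr hy)
  have hkk : k * k = Co0Basic.negCo0 := by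
    rw [← sq_letter, e]
    have h3 : k * y = y * k := mem_center_iff.1 (ker_pr hy) k
    calc k * k = k * k * (y * y) := by rw [hyy, mul_one]
      _ = k * (k * y) * y := by group
      _ = k * (y * k) * y := by rw [h3]
      _ = k * y * (k * y) := by group
  have hP := pce_cov hs ker_pr KFacts.Co1D4.GTwo.perf_L
  have hk2 : (⟨k, hk⟩ * ⟨k, hk⟩ : Hat (QuotientGroup.mk' (Subgroup.center Co0)) KFacts.Co1D4.GTwo.L) ≠ 1 := by
    intro h
    have h1 : k * k = 1 := congrArg Subtype.val h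
    rw [hkk] at h1
    exact Co0Basic.negCo0_ne_one h1
  have hk1 : cov (QuotientGroup.mk' (Subgroup.center Co0)) KFacts.Co1D4.GTwo.L (⟨k, hk⟩ * ⟨k, hk⟩) = 1 := by
    apply Subtype.ext
    rw [cov_apply]
    show QuotientGroup.mk' (Subgroup.center Co0) (k * k) = 1
    rw [hkk]
    exact pr_neg
  refine ⟨Hat (QuotientGroup.mk' (Subgroup.center Co0)) KFacts.Co1D4.GTwo.L, inferInstance, inferInstance, cov _ _,
    ⟨k, hk⟩ * ⟨k, hk⟩, ⟨k, hk⟩, hP, ⟨hP.surj, hP.cen, ?_, hk1, hk2⟩, hk1, hk2⟩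
  intro x hx
  have h1 : (x : Co0) ∈ Subgroup.center Co0 := by
    refine (QuotientGroup.eq_one_iff _).1 ?_
    exact (cov_apply (p := QuotientGroup.mk' (Subgroup.center Co0)) KFacts.Co1D4.GTwo.L x).symm.trans
      (congrArg Subtype.val hx)
  rcases Co0Basic.eq_one_or_neg_of_mem_center h1 with h | h
  · exact .inl (Subtype.ext h)
  · refine .inr (Subtype.ext ?_)
    rw [h]
    exact hkk.symm

theorem Dbl.congr {Γ : Type*} {K K' : Type*} [Group Γ] [Group K] [Group K'] {σ : Γ →* K} {z : Γ} (D : Dbl σ z)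
    (e : K ≃* K') : Dbl (e.toMonoidHom.comp σ) z where
  surj := e.surjective.comp D.surj
  cen := by
    intro x hx
    apply D.cen
    rw [MonoidHom.mem_ker] at hx ⊢
    exact (map_eq_one_iff e e.injective).1 hx
  mem x hx := D.mem x ((map_eq_one_iff e e.injective).1 hx)
  hz := (map_eq_one_iff e e.injective).2 D.hz
  z1 := D.z1

theorem exists_dbl {F : Type*} [Field F] [Fintype F] (hF : Fintype.card F = 4) :
    ∃ (Γ : Type) (_ : Group Γ) (_ : Finite Γ) (σ : Γ →* ↥(chevG2.group F)) (z k : Γ),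
      PCE σ ∧ Dbl σ z ∧ σ (k * k) = 1 ∧ k * k ≠ 1 := by
  obtain ⟨e⟩ := StdG24.Iso6.equiv_chev F hF
  obtain ⟨Γ, _, _, σ, z, k, h1, h2, h3, h4⟩ := exists_dbl_L
  refine ⟨Γ, inferInstance, inferInstance, (KFacts.Co1D4.GTwo.φ.symm.trans e).toMonoidHom.comp σ, z, k, h1.congr _,
    Dbl.congr h2 _, ?_, h4⟩
  exact (map_eq_one_iff (KFacts.Co1D4.GTwo.φ.symm.trans e) (MulEquiv.injective _)).2 h3

theorem Dbl.card_ker {Γ : Type*} {K : Type*} [Group Γ] [Group K] {σ : Γ →* K} {z : Γ} (D : Dbl σ z) :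
    Nat.card σ.ker = 2 := by
  have e : (σ.ker : Set Γ) = {1, z} := by
    ext x
    constructor
    · intro hx
      exact D.mem x hx
    · rintro (rfl | rfl)
      · exact one_mem _
      · exact D.hz
  have h : Nat.card σ.ker = (σ.ker : Set Γ).ncard := rfl
  rw [h, e, Set.ncard_pair (Ne.symm D.z1)]

/-- **RowA of `G₂(4)`, from the pairs.** -/
theorem rowA_of {F : Type*} [Field F] [Fintype F] [CharP F 2] (hF : Fintype.card F = 4)
    (hp : ∃ w : ↥(chevG2.group F), w ^ 3 = 1 ∧ (∀ u : F, w * X 7 u = X 7 u * w) ∧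
      ∀ g : ↥(chevG2.group F), g ≠ 1 → ∃ a b : ↥(chevG2.group F),
        g = a * (w * X 7 1) * a⁻¹ * (b * (w * X 7 1)⁻¹ * b⁻¹)) : Cfsg.Agent.H6.QO.RowA ↥(chevG2.group F) := by
  obtain ⟨Γ, _, _, σ, z, k, h1, h2, h3, h4⟩ := exists_dbl hF
  refine Cfsg.Agent.H6.QO.RowA.of_univ (Cfsg.Agent.S2102.result hF) h1 ?_ (allC_of h2 (by rw [hF]) h3 h4 hp)
  rw [Dbl.card_ker h2, Nat.card_congr (Multiplicative.toAdd : Multiplicative (ZMod 2) ≃ ZMod 2), Nat.card_zmod]

end cover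

end Cfsg.Agent.H509.QS.GTwo
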