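import Cfsg.Agent.H509.QS.GTwo
import Cfsg.Agent.H249.QO.GTwoFour

/-!
# `RowA` of `G₂(4)` (S2491/S2492, D6; helper509, pairs in `G₂(4)` by helper249)
-/

set_option autoImplicit false

namespace Cfsg.Agent.H509.QS

open Cfsg.Lie

universe u v

/-- **Every element of every perfect central extension of `G₂(4)` is a commutator.** -/
theorem rowA_g2_four {F : Type u} [Field F] [Fintype F] (hF : Fintype.card F = 4) :
    Cfsg.Agent.H6.QO.RowA ↥(chevG2.group F) := by
  have : CharP F 2 := by
    obtain ⟨p, hpc⟩ := CharP.exists F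
    obtain ⟨n, hp, hn⟩ := FiniteField.card F p
    rw [hF] at hn
    have h2 : p = 2 := by
      have h4 : p ∣ 2 ^ 2 := by
        rw [show (2 : ℕ) ^ 2 = 4 by norm_num, hn]
        exact dvd_pow_self p n.ne_zero
      exact (Nat.prime_dvd_prime_iff_eq hp Nat.prime_two).1 (hp.dvd_of_dvd_pow h4)
    rwa [h2] at hpc
  exact GTwo.rowA_of hF (Cfsg.Agent.H249.QO.GTwoFour.exists_pair hF)

/-- the form for an abstract group -/
theorem rowA_of_equiv {S : Type v} [Group S] {F : Type u} [Field F] [Fintype F] (hF : Fintype.card F = 4)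
    (e : S ≃* ↥(chevG2.group F)) : Cfsg.Agent.H6.QO.RowA S := (rowA_g2_four hF).congr e.symm

end Cfsg.Agent.H509.QS
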