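import Cfsg.Agent.H6.QO.Frame

/-!
# Double covers: squares of the lifts of involutions (S2491/S2492, D6; helper509)
-/

set_option autoImplicit false

namespace Cfsg.Agent.H509.QS

open Subgroup Cfsg.Agent.H51.Mult Cfsg.Agent.H777.Ore

universe u v

variable {Γ : Type u} {K : Type v} [Group Γ] [Group K] {σ : Γ →* K} {z : Γ}

/-- a double cover with kernel `{1, z}` -/
structure Dbl (σ : Γ →* K) (z : Γ) : Prop where
  surj : Function.Surjective σ
  cen : σ.ker ≤ center Γ
  mem : ∀ x, σ x = 1 → x = 1 ∨ x = z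
  hz : σ z = 1
  z1 : z ≠ 1

namespace Dbl

theorem zz (D : Dbl σ z) : z * z = 1 := by
  rcases D.mem (z * z) (by rw [map_mul, D.hz, mul_one]) with h | h
  · exact h
  · exact absurd (mul_eq_left.1 h) D.z1

theorem comm (D : Dbl σ z) (x : Γ) : x * z = z * x := mem_center_iff.1 (D.cen D.hz) x

theorem ne (D : Dbl σ z) {x : Γ} (h1 : x ≠ 1) (h : σ x = 1) : x = z := (D.mem x h).resolve_left h1

end Dbl

/-- all lifts of `y` have the square `w` -/
def Sq (σ : Γ →* K) (w : Γ) (y : K) : Prop := ∀ x : Γ, σ x = y → x * x = w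

theorem Sq.conj (D : Dbl σ z) {w : Γ} (hw : σ w = 1) {y : K} (hy : Sq σ w y) (h : K) : Sq σ w (h * y * h⁻¹) := by
  obtain ⟨h, rfl⟩ := D.surj h
  intro x hx
  have h1 : σ (h⁻¹ * x * h) = y := by rw [map_mul, map_mul, map_inv, hx]; group
  have h2 := hy _ h1
  have h3 := mem_center_iff.1 (D.cen hw) h
  calc x * x = h * (h⁻¹ * x * h * (h⁻¹ * x * h)) * h⁻¹ := by group
    _ = h * w * h⁻¹ := by rw [h2]
    _ = w := by rw [h3, mul_inv_cancel_right]

theorem Sq.conj' (D : Dbl σ z) {w : Γ} (hw : σ w = 1) {y y' : K} (hy : Sq σ w y) (h : ∃ h : K, h * y * h⁻¹ = y') :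
    Sq σ w y' := by
  obtain ⟨h, rfl⟩ := h
  exact hy.conj D hw h

theorem sq_of_lift (D : Dbl σ z) {x : Γ} {w : Γ} (h : x * x = w) : Sq σ w (σ x) := by
  intro x' hx'
  have h1 : σ (x⁻¹ * x') = 1 := by rw [map_mul, map_inv, hx', inv_mul_cancel]
  rcases D.mem _ h1 with h2 | h2
  · rw [inv_mul_eq_one] at h2
    rw [← h2, h]
  · have h3 : x' = x * z := by rw [← h2]; group
    rw [h3]
    calc x * z * (x * z) = x * (z * x) * z := by group
      _ = x * x * (z * z) := by rw [← D.comm x]; group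
      _ = w := by rw [D.zz, mul_one, h]

/-- an involution lifts to involutions or to elements of square `z` -/
theorem sq_or (D : Dbl σ z) {y : K} (hy : y * y = 1) : Sq σ 1 y ∨ Sq σ z y := by
  obtain ⟨x, rfl⟩ := D.surj y
  rcases D.mem (x * x) (by rw [map_mul, hy]) with h | h
  · exact .inl (sq_of_lift D h)
  · exact .inr (sq_of_lift D h)

/-- anticommuting lifts -/
theorem anti (D : Dbl σ z) {x y : Γ} (hx : x * x = z) (hy : y * y = z) (hxy : x * y * (x * y) = z) :
    x * y = z * (y * x) := by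
  have hx' : x⁻¹ = z * x := by
    rw [inv_eq_iff_mul_eq_one]
    calc x * (z * x) = (x * z) * x := by group
      _ = z * (x * x) := by rw [D.comm x]; group
      _ = 1 := by rw [hx, D.zz]
  have hy' : y⁻¹ = z * y := by
    rw [inv_eq_iff_mul_eq_one]
    calc y * (z * y) = (y * z) * y := by group
      _ = z * (y * y) := by rw [D.comm y]; group
      _ = 1 := by rw [hy, D.zz]
  calc x * y = (x * y * (x * y)) * (y⁻¹ * x⁻¹) := by group
    _ = z * ((z * y) * (z * x)) := by rw [hxy, hx', hy']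
    _ = z * z * ((y * z) * x) := by group
    _ = z * z * (z * (y * x)) := by rw [D.comm y]; group
    _ = z * (y * x) := by rw [D.zz, one_mul]

/-- no elementary abelian group of order eight whose involutions all lift to elements of order four -/
theorem no_three (D : Dbl σ z) {a b c : K} (ha : Sq σ z a) (hb : Sq σ z b) (hc : Sq σ z c) (hab : Sq σ z (a * b))
    (hac : Sq σ z (a * c)) (hbc : Sq σ z (b * c)) (habc : Sq σ z (a * (b * c))) : False := by
  obtain ⟨x, rfl⟩ := D.surj a
  obtain ⟨y, rfl⟩ := D.surj b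
  obtain ⟨w, rfl⟩ := D.surj c
  have h1 := anti D (ha x rfl) (hb y rfl) (hab _ (map_mul σ x y))
  have h2 := anti D (ha x rfl) (hc w rfl) (hac _ (map_mul σ x w))
  have h3 := anti D (ha x rfl) (hbc _ (map_mul σ y w)) (habc _ (by rw [map_mul, map_mul]))
  have h4 : x * (y * w) = y * w * x := by
    calc x * (y * w) = (x * y) * w := by group
      _ = z * (y * (x * w)) := by rw [h1]; group
      _ = z * ((y * z) * (w * x)) := by rw [h2]; group
      _ = z * z * (y * w * x) := by rw [D.comm y]; group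
      _ = y * w * x := by rw [D.zz, one_mul]
  rw [h4] at h3
  exact D.z1 (mul_eq_right.1 h3.symm)

/-- an element of order three commutes with the lifts of what it commutes with -/
theorem comm_of_three (D : Dbl σ z) {w t : Γ} (hw : σ w ^ 3 = 1) (h : σ w * σ t = σ t * σ w) : w * t = t * w := by
  have h1 : σ (w * t * w⁻¹ * t⁻¹) = 1 := by
    rw [map_mul, map_mul, map_mul, map_inv, map_inv, h]; group
  rcases D.mem _ h1 with h2 | h2
  · calc w * t = (w * t * w⁻¹ * t⁻¹) * (t * w) := by group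
      _ = t * w := by rw [h2, one_mul]
  · exfalso
    -- `w t = z t w`, `w³ t = z t w³`
    have h3 : w * t = z * (t * w) := by
      calc w * t = (w * t * w⁻¹ * t⁻¹) * (t * w) := by group
        _ = z * (t * w) := by rw [h2]
    have h4 : w * w * w * t = z * z * z * (t * (w * w * w)) := by
      calc w * w * w * t = w * w * (w * t) := by group
        _ = w * (w * z) * (t * w) := by rw [h3]; group
        _ = w * (z * w) * (t * w) := by rw [D.comm w]
        _ = (w * z) * (w * t) * w := by group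
        _ = (z * w) * (z * (t * w)) * w := by rw [D.comm w, h3]
        _ = z * (w * z) * t * w * w := by group
        _ = z * (z * w) * t * w * w := by rw [D.comm w]
        _ = z * z * (w * t) * w * w := by group
        _ = z * z * (z * (t * w)) * w * w := by rw [h3]
        _ = z * z * z * (t * (w * w * w)) := by group
    have h5 : σ (w * w * w) = 1 := by rw [map_mul, map_mul, ← hw, pow_succ, pow_two]
    have h6 := mem_center_iff.1 (D.cen h5) t
    rw [D.zz, one_mul, h6] at h4
    exact D.z1 (mul_eq_right.1 h4.symm)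

/-- **The row.** -/
theorem Dbl.allC (D : Dbl σ z) {w t t' : K} (hw3 : w ^ 3 = 1) (ht : w * t = t * w) (ht' : w * t' = t' * w)
    (h1 : Sq σ z t) (h2 : Sq σ z t') (h12 : Sq σ z (t * t'))
    (hcov : ∀ g : K, g ≠ 1 → ∃ a b : K, g = a * (w * t) * a⁻¹ * (b * (w * t)⁻¹ * b⁻¹)) : AllC Γ := by
  obtain ⟨w, rfl⟩ := D.surj w
  obtain ⟨t, rfl⟩ := D.surj t
  obtain ⟨t', rfl⟩ := D.surj t'
  have hanti := anti D (h1 t rfl) (h2 t' rfl) (h12 _ (map_mul σ t t'))
  have c1 := comm_of_three D hw3 ht'
  have hwt : t' * (w * t) * t'⁻¹ = w * t * z := by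
    calc t' * (w * t) * t'⁻¹ = (t' * w) * t * t'⁻¹ := by group
      _ = w * (z * z) * (t' * t) * t'⁻¹ := by rw [← c1, D.zz]; group
      _ = w * z * (z * (t' * t)) * t'⁻¹ := by group
      _ = w * z * (t * t') * t'⁻¹ := by rw [← hanti]
      _ = w * (z * t) := by group
      _ = w * t * z := by rw [← D.comm t]; group
  intro g
  by_cases hg : σ g = 1
  · rcases D.mem g hg with rfl | rfl
    · exact ⟨1, 1, by group⟩
    · refine ⟨t, t', ?_⟩
      calc g = g * (t' * t) * t⁻¹ * t'⁻¹ := by group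
        _ = t * t' * t⁻¹ * t'⁻¹ := by rw [← hanti]
  · obtain ⟨a, b, e⟩ := hcov (σ g) hg
    obtain ⟨a, rfl⟩ := D.surj a
    refine Cfsg.Agent.H6.QO.isC_of_pair D.surj D.cen (x := a * (w * t) * a⁻¹) (k := b * (σ a)⁻¹) ?_ ?_
    · rw [e]
      simp only [map_mul, map_inv]
      group
    · intro ζ hζ
      rcases D.mem ζ hζ with rfl | rfl
      · rw [mul_one]
      · rw [isConj_iff]
        refine ⟨a * t' * a⁻¹, ?_⟩
        calc a * t' * a⁻¹ * (a * (w * t) * a⁻¹) * (a * t' * a⁻¹)⁻¹ = a * (t' * (w * t) * t'⁻¹) * a⁻¹ := by group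
          _ = a * (w * t) * (ζ * a⁻¹) := by rw [hwt]; group
          _ = a * (w * t) * (a⁻¹ * ζ) := by rw [← D.comm a⁻¹]
          _ = _ := by group

end Cfsg.Agent.H509.QS
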